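import Cfsg.Agent.SM.Glue_m3
import Cfsg.Agent.SM.O8.MinA_m3
import Cfsg.Agent.H749.PF.Flags
import Cfsg.Agent.H948.Ppd.TypeB_m3
import Cfsg.Agent.H905.MdL
import Cfsg.Agent.KFacts.RgdAut
import Cfsg.Agent.H985.VZ.GTwo_m3
import Cfsg.Agent.FastGrp
import Cfsg.Agent.Prune
set_option linter.all false

section
prune_inst 0x7f00000000000000000000000000000000000000000000000000000000000000000000000000000000000000000000000000000000000000000000000000000000000000000000000000000000000000003fffffffffffffffffffffffffffbeffbdffffffff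

-- part: SM/CSe/Spin
section
set_option linter.all false
open scoped Cfsg.Agent.FastGrp

/-!
# SM (S3570), box CS-Be: the points of the Lagrangian subspaces (helper84)

**`exists_spin`** : the fixed point of a Sylow `2`-subgroup has the stabiliser of a Lagrangian, and two points of its orbit are
perpendicular unless the Lagrangians are opposite.
-/

set_option autoImplicit false
set_option linter.unusedSectionVars false

namespace Cfsg.Agent.SM.CS.Be

open CoxeterSystem Cfsg.Agent.ChevalleyStructure.CoxeterGeom Cfsg.Agent.Tits.Roots Cfsg.Agent.Tits.Core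
  Cfsg.Agent.Tits.Exchange Cfsg.Agent.Nodes.Reps Cfsg.Agent.Nodes.BNOf
  Cfsg.Agent.Nodes.Bruhat Cfsg.Agent.Nodes.OppDec Cfsg.Agent.Nodes.LeviDec Cfsg.Agent.H905.Md Cfsg.Agent.H156.Ppd
open Cfsg.Agent.Nodes Cfsg.Agent.Nodes.TypeC Cfsg.Agent.Nodes.WittAll Cfsg.Agent.Nodes.WittRoot
open Cfsg.Agent.TitsThree.SpIdent Cfsg.Agent.SM.Ti Cfsg.Agent.H915.LD Cfsg.Agent.H905.DC
open Cfsg Cfsg.Geo Module
open scoped LinearAlgebra.Projectivization

variable {F : Type} [Field F] {n : ℕ} {K : Type} [Field K]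

/-- the point of the Lagrangian `L0` -/
structure Spin (B : (Fin n → K) → (Fin n → K) → K) (ρ : S F →* GL (Fin n) K) (x : Fin n → K) : Prop where
  ne : x ≠ 0
  fix : ∀ g ∈ St F, ∃ c : K, c • x = ap (ρ g) x
  uniq : ∀ z, (∀ g ∈ St F, ∃ c : K, c • z = ap (ρ g) z) → ∃ c : K, z = c • x
  opp : ∀ g, B (ap (ρ g) x) x ≠ 0 → L0 F ⊓ im g (L0 F) = ⊥
  ex : ∃ k, im k (L0 F) = L1 F ∧ B (ap (ρ k) x) x ≠ 0

theorem ker_eq {α β : Type} [Fintype α] [DecidableEq α] [Fintype β] [DecidableEq β] (e : α ⊕ β ≃ Fin 4 ⊕ Fin 4)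
    (L : Submodule F (Nm F)) (h : ∀ w, w ∈ L ↔ ∀ i, w (e (.inl i)) = 0) :
    L = Submodule.span F (Set.range fun i : β => (Pi.single (e (.inr i)) 1 : Nm F)) := by
  apply le_antisymm
  · intro w hw
    rw [pi_eq_sum_univ' w]
    refine Submodule.sum_mem _ fun j _ => ?_
    obtain ⟨i | i, rfl⟩ := e.surjective j
    · rw [(h w).1 hw i, zero_smul]
      exact zero_mem _
    · exact Submodule.smul_mem _ _ (Submodule.subset_span ⟨i, rfl⟩)
  · rw [Submodule.span_le]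
    rintro _ ⟨i, rfl⟩
    exact (h _).2 fun j => Pi.single_eq_of_ne (by simp) _

theorem L0_eq : L0 F = Submodule.span F (Set.range (e 4 F)) := ker_eq (Equiv.refl _) _ fun _ => mem_L0

theorem L1_eq : L1 F = Submodule.span F (Set.range (f 4 F)) := ker_eq (Equiv.sumComm _ _) _ fun _ => mem_L1

theorem im_mono {k : S F} (h : Mono (frame 4 F) k.1 ng) : im k (L0 F) = L1 F := by
  rw [L0_eq, L1_eq, im, Submodule.map_span]
  apply le_antisymm
  · rw [Submodule.span_le]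
    rintro _ ⟨_, ⟨i, rfl⟩, rfl⟩
    obtain ⟨l, -, hl⟩ := h (i, true)
    exact (show k.1 (e 4 F i) = l • f 4 F i from hl) ▸ Submodule.smul_mem _ _ (Submodule.subset_span ⟨i, rfl⟩)
  · rw [Submodule.span_le]
    rintro _ ⟨i, rfl⟩
    obtain ⟨l, h0, hl⟩ := h (i, true)
    refine (Submodule.smul_mem_iff _ h0).1 ?_
    exact (show k.1 (e 4 F i) = l • f 4 F i from hl) ▸ Submodule.subset_span ⟨_, ⟨i, rfl⟩, rfl⟩

theorem im_St {g : S F} (hg : g ∈ St F) : im g (L0 F) = L0 F := Submodule.ext fun w => mem_im.trans (inv_mem hg w)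

theorem im_mul (g h : S F) (L : Submodule F (Nm F)) : im (g * h) L = im g (im h L) :=
  Submodule.ext fun w => by simp only [mem_im, mul_inv_rev, mul_ap]

theorem L0_inf : L0 F ⊓ L1 F = ⊥ := by
  rw [eq_bot_iff]
  rintro u ⟨h4, h5⟩
  refine funext fun j => ?_
  rcases j with i | i
  · exact mem_L0.1 h4 i
  · exact mem_L1.1 h5 i

/-- the Cartan matrix -/
def mA (i j : Fin 4) : ℤ :=
  if i = j then 2 else if (i : ℕ) + 1 = j then (if (j : ℕ) + 1 < 4 then -1 else -2) else if (j : ℕ) + 1 = i then -1 else 0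

theorem mA_eq : TypeC.A 4 = mA := funext fun i => funext fun j => A_apply i j

section nodes

variable {W Y : Type*} [Group W] [Group Y] {cs : CoxeterSystem (CoxeterMatrix.B 4) W} {p : ℕ} {T : Subgroup Y} {nn : Fin 4 → Y}
  {X : (Fin 4 → ℤ) → Subgroup Y} {k V : Type*} [Field k] [AddCommGroup V] [Module k V] {A : Fin 4 → Fin 4 → ℤ}
  {h : IsCartan (CoxeterMatrix.B 4) A}

theorem nodes (hA : A = mA) (R : RGD cs h p T nn X) [Finite Y] [Finite W] [Fact p.Prime] [CharP k p] {ρ : Y →* Module.End k V}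
    [FiniteDimensional k V] [Nontrivial V] (hirr : ∀ L : Submodule k V, Omega.CR.Ivt ρ (GG cs h T X) L → L = ⊥ ∨ L = ⊤)
    (hD : 1 ≤ finrank k (D cs h X ρ)) (hV : finrank k V ≤ 16) :
    1 ∈ Jx cs h X ρ ∧ 2 ∈ Jx cs h X ρ ∧ (0 ∈ Jx cs h X ρ ∨ 3 ∈ Jx cs h X ρ) := by
  subst hA
  have key : ∀ m, 17 * finrank k (D cs h X ρ) + m ≤ finrank k V → False := fun m hm => by omega
  refine ⟨by_contra fun h1 => ?_, by_contra fun h1 => ?_, by_contra fun h1 => ?_⟩
  · exact key _ <| H650.Ppd.dim_ge_list R hirr h1 [[], [1], [1, 0], [1, 2], [1, 0, 2], [1, 2, 3], [1, 0, 2, 1], [1, 0, 2, 3], [1, 2, 3, 2],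
      [1, 0, 2, 1, 3], [1, 0, 2, 3, 2], [1, 2, 3, 2, 1], [1, 0, 2, 1, 3, 2], [1, 0, 2, 3, 2, 1], [1, 2, 3, 2, 1, 0],
      [1, 0, 2, 1, 3, 2, 1], [1, 0, 2, 1, 3, 2, 3]] [] (by decide +kernel) (by simp)
  · exact key _ <| H650.Ppd.dim_ge_list R hirr h1 [[], [2], [2, 1], [2, 3], [2, 1, 0], [2, 1, 3], [2, 3, 2], [2, 1, 0, 3], [2, 1, 3, 2],
      [2, 3, 2, 1], [2, 1, 0, 3, 2], [2, 1, 3, 2, 1], [2, 1, 3, 2, 3], [2, 3, 2, 1, 0], [2, 1, 0, 3, 2, 1], [2, 1, 0, 3, 2, 3],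
      [2, 1, 3, 2, 1, 0]] [] (by decide +kernel) (by simp)
  · exact key _ <| H650.Ppd.dim_ge_list_two R hirr (not_or.1 h1).1 (not_or.1 h1).2 (by decide) [[], [0], [3], [0, 1], [0, 3], [3, 2],
      [0, 1, 2], [0, 1, 3], [0, 3, 2], [3, 2, 1], [3, 2, 3], [0, 1, 2, 3], [0, 1, 3, 2], [0, 3, 2, 1], [0, 3, 2, 3], [3, 2, 1, 0],
      [3, 2, 1, 3]] [] [] (by decide +kernel) (by simp) (by simp)

end nodes

variable [Fintype F] [CharP F 2] [Fintype K] [CharP K 2]

theorem exists_spin {B : (Fin n → K) → (Fin n → K) → K} {Sg : (Fin n → K) → Prop} {G P : Subgroup (GL (Fin n) K)}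
    (h : Tc 8 P) (hB : Pol B Sg G) (hS : Sing Sg G) (hPG : P ≤ G) (hn : n = 16) (hq : Fintype.card F = Fintype.card K)
    {ρ : S F →* GL (Fin n) K} (hρ : ρ.range = P) : ∃ x, Sg x ∧ Spin B ρ x := by
  let cs := (CoxeterMatrix.B 4).toCoxeterSystem
  have : Finite (CoxeterMatrix.B 4).Group := finite_W cs
  have : Finite (S F) := H62.SpCross.finite_isos
  let M := H62.SpCross.model 4 F
  have hA : AmbT (frame 4 F) 2 M.I := AmbT.of_amb (KFacts.Mult.SpTwo.amb 4 F) 2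
  have hp0 : (adm 1 : (frame 4 F).Adm).c ≠ 0 := one_ne_zero
  have R := rgdC_model M hA hp0 cs
  have hG := H749.PF.GG_eq_top M cs (by norm_num)
  have hT := modelT_comm hA kd_sp
  have hC := h.core
  have hne : Nonempty (Fin n) := hC.nonempty
  obtain ⟨x, k, hx0, hxS, hxD, hD, hk, hk0, hst, hnp, -⟩ := cell hC hB hS hPG R hG hT hρ
  obtain ⟨⟨s, hs, hidx⟩, -, -⟩ := h.big R hG hT hρ
  rw [H69.Ppd.Jx_eq R hG hT hρ hC.absIrred] at hidx
  have hirr := H69.Ppd.lrep_irr (T := WittModel.T M) (X := WittModel.X M) (h := isCartan 4) (cs := cs) hG hρ hC.absIrred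
  obtain ⟨j1, j2, j3⟩ := nodes mA_eq R hirr
    (Nat.one_le_iff_ne_zero.2 fun e => hx0 ((Submodule.mem_bot K).1 (Submodule.finrank_eq_zero.1 e ▸ hxD)))
    (by rw [Module.finrank_fin_fun, hn])
  set J := Jx cs (isCartan 4) (WittModel.X M) (lrep ρ) with hJ
  have hF := H749.PF.StF_eq_PJ M hA hp0 cs (by norm_num)
  have j4 : 3 ∉ J := by
    intro j4
    have he : e 4 F 0 ≠ 0 := by simp [e]
    have h1 : MulAction.stabilizer (S F) (Projectivization.mk F (e 4 F 0) he) ≤ PJ cs (isCartan 4) (WittModel.T M) (WittModel.X M) J := by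
      refine le_trans ?_ (H631.VZ.PJ_mono (H439.CC.JB {1} ()) J fun i hi => ?_)
      · rw [← hF]
        intro g hg
        refine (H749.PF.phi_mem_StF M (g := g)).2 fun i hi => ?_
        obtain rfl : i = 0 := Fin.ext (by simpa using hi)
        have hg' : g.1 • Projectivization.mk F (e 4 F 0) he = Projectivization.mk F (e 4 F 0) he := hg
        rw [Projectivization.smul_mk, Projectivization.mk_eq_mk_iff'] at hg'
        obtain ⟨c, hc⟩ := hg'
        refine H769.OZ.mem_StE_of_finite fun v hv => ?_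
        have h2 : H769.OZ.E (frame 4 F) 0 true = Submodule.span F {e 4 F 0} := by
          unfold H769.OZ.E
          congr 1
          ext w
          exact ⟨by rintro ⟨i, hi, rfl⟩; rw [le_zero_iff.1 hi]; rfl, by rintro rfl; exact ⟨0, le_rfl, rfl⟩⟩
        rw [h2, Submodule.mem_span_singleton] at hv ⊢
        obtain ⟨d, rfl⟩ := hv
        exact ⟨d * c, by rw [map_smul, mul_smul, hc]; rfl⟩
      · have h2 : (i : ℕ) + 1 ∉ ({1} : Finset ℕ) := hi
        have h3 : i = 1 ∨ i = 2 ∨ i = 3 := by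
          rw [Finset.mem_singleton] at h2
          omega
        rcases h3 with rfl | rfl | rfl <;> assumption
    have h2 := Subgroup.index_antitone h1
    rw [hidx, MulAction.index_stabilizer] at h2
    have h3 := h2.trans (Set.ncard_le_card _)
    rw [Projectivization.card_of_finrank F _ fr_N, Nat.card_eq_fintype_card, Nat.card_eq_fintype_card, hq] at h3
    have h4 := th_pos (Fintype.card K) (m := 8) (by norm_num)
    have h5 : 0 < 2 ^ s := by positivity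
    change _ ≤ th _ 8 at h3
    nlinarith
  have hJ' : J = H439.CC.JB {4} () := by
    ext i
    change _ ↔ (i : ℕ) + 1 ∉ ({4} : Finset ℕ)
    have j0 := j3.resolve_right j4
    fin_cases i
    · exact iff_of_true j0 (by decide)
    · exact iff_of_true j1 (by decide)
    · exact iff_of_true j2 (by decide)
    · exact iff_of_false j4 (by decide)
  have hSt : PJ cs (isCartan 4) (WittModel.T M) (WittModel.X M) J = St F := by
    have h2 : H769.OZ.E (frame 4 F) 3 true = L0 F := by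
      rw [L0_eq]
      unfold H769.OZ.E
      congr 1
      ext w
      exact ⟨by rintro ⟨i, -, rfl⟩; exact ⟨i, rfl⟩, by rintro ⟨i, rfl⟩; exact ⟨i, Fin.le_last i, rfl⟩⟩
    rw [hJ', ← hF]
    ext g
    refine (H749.PF.phi_mem_StF M (g := g)).trans ⟨fun h1 => ?_, fun h1 i hi => ?_⟩
    · have h3 := h1 3 (by decide)
      rwa [h2] at h3
    · obtain rfl : i = 3 := Fin.ext (by simpa using hi)
      rw [h2]
      exact h1
  rw [hSt] at hst
  have hBS : RGD.B cs (isCartan 4) (WittModel.T M) (WittModel.X M) ≤ St F := hSt ▸ B_le_PJ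
  have hk1 : im k⁻¹ (L0 F) = L1 F := by
    obtain ⟨v, hv, g, hg, h1, h2⟩ := exists_neg M hA hp0 (cs := cs) R.nsys
    obtain rfl : v = w0 cs := by
      rw [← inv_inj, w0_inv]
      refine KFacts.RgdAut.eq_w0 R fun r _ hr => ?_
      rw [inv_inv, hv]
      exact neg_nonpos.2 hr
    have h3 := hk.inv
    rw [w0_inv] at h3
    have h4 : (⟨g, hg⟩ : S F)⁻¹ * k⁻¹ ∈ St F := hBS ((le_sup_left : WittModel.T M ≤ _) (h1.unique h3))
    rw [← mul_inv_cancel_left (⟨g, hg⟩ : S F) k⁻¹, im_mul, im_St h4, im_mono h2]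
  refine ⟨x, hxS, hx0, fun g hg => (hst g).1 hg, fun z hz => hD z fun u hu => ?_, fun g hg => ?_, k⁻¹, hk1, hk0⟩
  · obtain ⟨c, hc⟩ := hz u (hBS (RGD.U_le_B hu))
    obtain ⟨a, ha⟩ := R.isPGroup_Upos ⟨u, hu⟩
    have h1 : ∀ j : ℕ, c ^ j • z = ap (ρ (u ^ j)) z := fun j => by
      induction j with
      | zero => rw [pow_zero, pow_zero, map_one, ap_one, one_smul]
      | succ j ih => rw [pow_succ u, map_mul, ap_mul, ← hc, ap_smul, ← ih, smul_smul, pow_succ']
    have h2 := h1 (2 ^ a)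
    rw [show u ^ 2 ^ a = 1 from congrArg Subtype.val ha, map_one, ap_one] at h2
    have h3 : (c - 1) ^ 2 ^ a • z = 0 := by rw [sub_pow_char_pow, one_pow, sub_smul, h2, one_smul, sub_self]
    rw [H69.Ppd.lrep_apply]
    change ap (ρ u) z = z
    rcases smul_eq_zero.1 h3 with h4 | h4
    · rw [← hc, sub_eq_zero.1 (pow_eq_zero_iff (by positivity) |>.1 h4), one_smul]
    · rw [← hc, h4, smul_zero]
  · obtain ⟨u, hu, c, -, e⟩ := (hnp g).1 hg
    have hu' := hBS (RGD.U_le_B hu)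
    have h1 : (u * k⁻¹)⁻¹ * g ∈ St F := (hst _).2 ⟨c, by
      rw [map_mul, ap_mul, e, ap_smul, ← ap_mul (ρ u), ← map_mul, map_inv, ap_inv_ap]⟩
    rw [← mul_inv_cancel_left (u * k⁻¹) g, im_mul, im_St h1, im_mul, hk1, eq_bot_iff]
    rintro w ⟨h2, h3⟩
    have h4 : u⁻¹.1 w ∈ L0 F ⊓ L1 F := ⟨(inv_mem hu' w).2 h2, mem_im.1 h3⟩
    rw [L0_inf] at h4
    exact u⁻¹.1.map_eq_zero_iff.1 h4

end Cfsg.Agent.SM.CS.Be

private theorem dce_800fea04d476 : _root_.True := by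
  try have : _root_.True := by simp only [_root_.Cfsg.Agent.SM.CS.Be.im.eq_1]
  exact _root_.True.intro
end

-- part: SM/CSe/Main
section
set_option linter.all false
open scoped Cfsg.Agent.FastGrp

/-!
# SM (S3570), box CS-Be: `Sp₈(q) < Ω₁₆⁺(q)`, `q` even (helper84)

`boxBe : BoxBe`.
-/

set_option autoImplicit false
set_option linter.unusedSectionVars false

namespace Cfsg.Agent.SM.CS

open Cfsg Cfsg.Geo Matrix Subgroup QuadraticMap Module
open Cfsg.Agent.H925 (qf nondeg_qf)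
open Cfsg.Agent.H915.LD (toSoc toSoc_surjective ker_toSoc)
open Cfsg.Agent.SM.Ti (ap ap_mul ap_one ap_inv_ap ap_ap_inv ap_smul ap_add ap_ne)

namespace Be

theorem prm_of_map {T T' : Type} [Group T] [Group T'] (e : T ≃* T') {A : Subgroup T} (h : Prm (A.map e.toMonoidHom)) : Prm A := by
  intro C hC hφ
  have key : ∀ (ψ : MulAut T') (D : Subgroup T), (D.map e.toMonoidHom).map ψ.toMonoidHom =
      (D.map ((e.trans ψ).trans e.symm).toMonoidHom).map e.toMonoidHom := fun ψ D => by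
    rw [Subgroup.map_map, Subgroup.map_map]
    congr 1
    ext t
    simp only [_root_.MulEquiv.toMonoidHom_eq_coe, _root_.MonoidHom.coe_comp, _root_.MonoidHom.coe_coe, _root_.Function.comp_apply, _root_.MulEquiv.coe_monoidHom_trans, _root_.MulEquiv.apply_symm_apply]
  have hi : Function.Injective (Subgroup.map e.toMonoidHom) := _root_.Subgroup.map_injective e.injective
  refine (h (C.map e.toMonoidHom) (map_mono hC) fun ψ hψ => ?_).imp (fun h1 => hi h1) fun h1 => hi ?_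
  · rw [key, hφ _ (hi (by rw [← key, hψ]))]
  · rw [h1, map_top_of_surjective _ e.surjective]

/-- **at most `2 q ^ (d - 1) - q ^ (d - 2)` vectors of norm `a`** -/
theorem cnt {K V : Type*} [Field K] [Finite K] [AddCommGroup V] [Module K V] [Finite V] (Q : QuadraticForm K V)
    (U : Submodule K V) (a : K) {e w : V} (he : e ∈ U) (hQ : Q e = 0) (hw : w ∈ U) (hwe : polar Q w e ≠ 0) :
    {v | v ∈ U ∧ Q v = a}.ncard * Nat.card K ^ 2 + Nat.card K ^ finrank K U ≤ 2 * Nat.card K ^ finrank K U * Nat.card K := by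
  have : Module.Finite K V := Module.Finite.of_finite
  let U' : Submodule K V := U ⊓ LinearMap.ker (Q.polarBilin.flip e)
  have hU' : ∀ v, v ∈ U' ↔ v ∈ U ∧ polar Q v e = 0 := fun v => Iff.rfl
  have hee : polar Q e e = 0 := by rw [polar_self, hQ, smul_zero]
  have h3 : {v | (v ∈ U ∧ Q v = a) ∧ polar Q v e ≠ 0}.ncard * Nat.card K ≤ ((U : Set V) \ U').ncard := by
    rw [← Nat.card_coe_set_eq, ← Nat.card_prod, ← Nat.card_coe_set_eq]
    refine Nat.card_le_card_of_injective (fun x => ⟨x.1.1 + x.2 • e, U.add_mem x.1.2.1.1 (U.smul_mem _ he), fun h => ?_⟩) ?_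
    · have h4 := ((hU' _).1 h).2
      rw [polar_add_left, polar_smul_left, hee, smul_zero, add_zero] at h4
      exact x.1.2.2 h4
    · rintro ⟨⟨v, ⟨hv, hv'⟩, hv0⟩, x⟩ ⟨⟨w, ⟨hw, hw'⟩, hw0⟩, y⟩ h
      have h1 : v + x • e = w + y • e := congrArg Subtype.val h
      have h4 : w = v + (x - y) • e := by rw [sub_smul, ← add_sub_assoc, h1, add_sub_cancel_right]
      have h6 := map_add_smul Q v e (x - y)
      rw [← h4, hv', hw', hQ] at h6
      have h5 : x - y = 0 := (mul_eq_zero.1 (by linear_combination -h6)).resolve_right hv0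
      rw [h5, zero_smul, add_zero] at h4
      subst h4
      rw [sub_eq_zero.1 h5]
  have h1 : Nat.card U' = (U' : Set V).ncard := Nat.card_coe_set_eq (U' : Set V)
  have h4 : ((U : Set V) \ U').ncard + Nat.card U' = Nat.card U := by
    rw [h1, ← SetLike.coe_sort_coe U, Nat.card_coe_set_eq]
    exact Set.ncard_sdiff_add_ncard_of_subset (fun v hv => hv.1)
  have h5 : {v | v ∈ U ∧ Q v = a}.ncard ≤ {v | (v ∈ U ∧ Q v = a) ∧ polar Q v e ≠ 0}.ncard + Nat.card U' := by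
    rw [h1]
    refine le_trans (Set.ncard_le_ncard (fun v hv => ?_)) (Set.ncard_union_le _ _)
    by_cases h0 : polar Q v e = 0
    · exact Or.inr ⟨hv.1, h0⟩
    · exact Or.inl ⟨hv, h0⟩
  have h6 : finrank K U' < finrank K U :=
    Submodule.finrank_lt_finrank_of_lt (lt_of_le_of_ne inf_le_left fun h => hwe ((hU' w).1 (h ▸ hw)).2)
  have h7 : Nat.card U' * Nat.card K ≤ Nat.card U := by
    rw [Module.natCard_eq_pow_finrank (K := K) (V := U'), Module.natCard_eq_pow_finrank (K := K) (V := U), ← pow_succ]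
    exact Nat.pow_le_pow_right Nat.card_pos h6
  rw [← Module.natCard_eq_pow_finrank]
  obtain ⟨r, hr⟩ : ∃ r, Nat.card K = r + 1 := ⟨_, (Nat.succ_pred_eq_of_pos Nat.card_pos).symm⟩
  rw [hr] at h3 h7 ⊢
  have h8 := Nat.mul_le_mul_right ((r + 1) ^ 2) h5
  have h9 := Nat.mul_le_mul_right (r + 1) h3
  have h10 := Nat.mul_le_mul_right r h7
  rw [← h4] at h10 ⊢
  linarith only [h8, h9, h10]

theorem arith {q m d a b : ℕ} (hq : 2 ≤ q) (hd : d ≤ 8) (h1 : m * q ^ 2 + q ^ d ≤ 2 * q ^ d * q) (ha : a ≤ m)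
    (hb : b ≤ q ^ 4 * (q ^ 4 + 1)) : a * b < 2 * (q ^ 7 * (q ^ 8 - 1)) ∧ (d ≠ 8 → a * b < q ^ 7 * (q ^ 8 - 1)) := by
  have q3 : 8 ≤ q ^ 3 := Nat.pow_le_pow_left hq 3
  have q4 : 16 ≤ q ^ 4 := Nat.pow_le_pow_left hq 4
  obtain ⟨t, ht⟩ : ∃ t, q ^ 4 = t + 1 := ⟨q ^ 4 - 1, by omega⟩
  have e : q ^ 7 * (q ^ 8 - 1) = q ^ 3 * t * (q ^ 4 * (q ^ 4 + 1)) := by
    rw [show q ^ 8 = t * (t + 2) + 1 by rw [show q ^ 8 = q ^ 4 * q ^ 4 by ring, ht]; ring, Nat.add_sub_cancel,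
      show q ^ 7 = q ^ 3 * q ^ 4 by ring, ht]
    ring
  have e1 : q ^ 3 * t + q ^ 3 = q ^ 7 := by rw [← Nat.mul_succ, Nat.succ_eq_add_one, ← ht]; ring
  have h2 : ∀ k, d ≤ k + 2 → m + q ^ k ≤ 2 * q ^ k * q := fun k hk => by
    have h3 : q ^ d ≤ q ^ k * q ^ 2 := by rw [← pow_add]; exact Nat.pow_le_pow_right (by omega) hk
    obtain ⟨r, rfl⟩ : ∃ r, q = r + 1 := ⟨q - 1, by omega⟩
    refine Nat.le_of_mul_le_mul_right (c := (r + 1) ^ 2) ?_ (by (clear * -; positivity))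
    have h4 := Nat.mul_le_mul_left (2 * r + 1) h3
    linarith only [h1, h4]
  have h0 : 0 < q ^ 4 * (q ^ 4 + 1) := by positivity
  rw [e, ← mul_assoc]
  refine ⟨Nat.mul_lt_mul_of_lt_of_le ?_ hb h0, fun h8 => Nat.mul_lt_mul_of_lt_of_le ?_ hb h0⟩
  · have h3 := h2 6 hd
    have h4 : 2 * q ^ 6 * q = 2 * q ^ 7 := by ring
    have h5 : 8 * q ^ 3 ≤ q ^ 6 := by
      rw [show q ^ 6 = q ^ 3 * q ^ 3 by ring]
      exact Nat.mul_le_mul_right _ q3
    omega
  · have h3 := h2 5 (by omega)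
    have h4 : 2 * q ^ 5 * q ≤ q ^ 7 := by
      rw [show q ^ 7 = q * q ^ 5 * q by ring]
      gcongr
    have h5 : q ^ 3 < q ^ 5 := Nat.pow_lt_pow_right hq (by norm_num)
    omega

variable {F : Type} [Field F] {n : ℕ} {K : Type} [Field K] {ρ : S F →* GL (Fin n) K} {x : Fin n → K}

theorem ap_conj (y g : GL (Fin n) K) (v : Fin n → K) : ap (y * g * y⁻¹) (ap y v) = ap y (ap g v) := by
  rw [ap_mul, ap_mul, ap_inv_ap]

theorem Spin.conj {B : (Fin n → K) → (Fin n → K) → K} (h : Spin B ρ x) {y : GL (Fin n) K}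
    (hy : ∀ u w, B (ap y u) (ap y w) = B u w) : Spin B ((MulAut.conj y).toMonoidHom.comp ρ) (ap y x) where
  ne := ap_ne y h.ne
  fix g hg := (h.fix g hg).imp fun c hc => by
    refine Eq.trans ?_ (ap_conj y (ρ g) x).symm
    rw [← hc, ap_smul]
  uniq z hz := by
    obtain ⟨c, hc⟩ := h.uniq (ap y⁻¹ z) fun g hg => (hz g hg).imp fun c hc => ap_inj y (by
      rw [ap_smul, ← ap_conj y (ρ g), ap_ap_inv]
      exact hc)
    exact ⟨c, by rw [← ap_smul, ← hc, ap_ap_inv]⟩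
  opp g hg := h.opp g (by rw [← hy, ← ap_conj]; exact hg)
  ex := h.ex.imp fun k hk => ⟨hk.1, by
    have h1 := hk.2
    rw [← hy, ← ap_conj] at h1
    exact h1⟩

/-- the span of a part of the orbit -/
def Vs (ρ : S F →* GL (Fin n) K) (x : Fin n → K) (T : Set (S F)) : Submodule K (Fin n → K) :=
  Submodule.span K ((fun g => ap (ρ g) x) '' T)

theorem mem_Vs {T : Set (S F)} {g : S F} (hg : g ∈ T) : ap (ρ g) x ∈ Vs ρ x T := Submodule.subset_span ⟨g, hg, rfl⟩

theorem to_Vs {z : GL (Fin n) K} {T T' : Set (S F)} (h : ∀ g ∈ T, ∃ g' ∈ T', ∃ c : K, ap z (ap (ρ g) x) = c • ap (ρ g') x) :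
    To z (Vs ρ x T) (Vs ρ x T') := by
  refine (Submodule.span_le.2 ?_ : Vs ρ x T ≤ (Vs ρ x T').comap (toLin' (z : Matrix (Fin n) (Fin n) K)))
  rintro _ ⟨g, hg, rfl⟩
  obtain ⟨g', hg', c, hc⟩ := h g hg
  change ap z _ ∈ Vs ρ x T'
  rw [hc]
  exact Submodule.smul_mem _ _ (mem_Vs hg')

theorem to_Vs' {k : S F} {T T' : Set (S F)} (h : ∀ g ∈ T, k * g ∈ T') : To (ρ k) (Vs ρ x T) (Vs ρ x T') :=
  to_Vs fun g hg => ⟨_, h g hg, 1, by rw [map_mul, ap_mul, one_smul]⟩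

variable [Fintype F] [CharP F 2] [Fintype K] {Q : (Fin n → K) → K}

/-- the two halves -/
abbrev V1 (ρ : S F →* GL (Fin n) K) (x : Fin n → K) : Submodule K (Fin n → K) := Vs ρ x {g | g ∈ E F}
abbrev V2 (ρ : S F →* GL (Fin n) K) (x : Fin n → K) : Submodule K (Fin n → K) := Vs ρ x {g | g ∈ O F ∧ g ∉ E F}

theorem x_mem : x ∈ V1 ρ x := by
  have h := mem_Vs (ρ := ρ) (x := x) (T := {g | g ∈ E F}) (one_mem (E F))
  rwa [map_one, ap_one] at h

theorem to_E {k : S F} (hk : k ∈ E F) : To (ρ k) (V1 ρ x) (V1 ρ x) ∧ To (ρ k) (V2 ρ x) (V2 ρ x) :=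
  ⟨to_Vs' fun _ hg => mul_mem hk hg, to_Vs' fun _ hg =>
    ⟨mul_mem (E_le hk) hg.1, fun h => hg.2 (((mul_mem_E (E_le hk) hg.1).1 h).1 hk)⟩⟩

theorem fr_V : finrank K (V1 ρ x) = finrank K (V2 ρ x) := by
  obtain ⟨t, ht, ht'⟩ := exists_refl (F := F)
  exact le_antisymm
    (To.le (to_Vs' (k := t) fun _ hg => ⟨mul_mem ht (E_le hg), fun h => ht' (((mul_mem_E ht (E_le hg)).1 h).2 hg)⟩))
    (To.le (to_Vs' (k := t) fun _ hg => (mul_mem_E ht hg.1).2 (iff_of_false ht' hg.2)))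

theorem orth (hQ : IsNondegenerateQuadraticForm Q) (hi : ∀ g, ρ g ∈ isometryGroup K Q) (h : Spin (polar Q) ρ x) :
    V2 ρ x ≤ H955.perp (qf hQ) (V1 ρ x) := by
  refine Submodule.span_le.2 ?_
  rintro _ ⟨g', hg', rfl⟩ w hw
  refine (Submodule.span_le.2 ?_ : V1 ρ x ≤ LinearMap.ker ((qf hQ).polarBilin.flip _)) hw
  rintro _ ⟨g, hg, rfl⟩
  change polar Q (ap (ρ g) x) (ap (ρ g') x) = 0
  by_contra h1
  rw [polar_comm, ← Ix.polar_iso (hi g⁻¹)] at h1
  change polar Q (ap _ (ap _ x)) (ap _ (ap _ x)) ≠ 0 at h1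
  rw [← ap_mul, ← map_mul, map_inv, ap_inv_ap] at h1
  have h2 := inv_mem (E_le hg)
  exact hg'.2 (((mul_mem_E h2 hg'.1).1 (mem_E_of (mul_mem h2 hg'.1) (h.opp _ h1))).1 (inv_mem hg))

theorem exists_fac {B : (Fin n → K) → (Fin n → K) → K} (h : Spin B ρ x) (hρ : Function.Injective ρ) {y : GL (Fin n) K}
    (hy : ∀ g, y * ρ g * y⁻¹ ∈ ρ.range) : ∃ g, To (ρ g * y) (V1 ρ x) (V1 ρ x) ∧ To (ρ g * y) (V2 ρ x) (V2 ρ x) := by
  have : Finite (S F) := Finite.of_injective ρ hρ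
  choose f hf using hy
  let φ : MulAut (S F) := MulEquiv.ofBijective (MonoidHom.mk' f fun a b => hρ (by rw [map_mul, hf, hf, hf, map_mul]; group))
    (Finite.injective_iff_bijective.1 fun a b e => hρ (by
      have h1 := hf a
      rw [show f a = f b from e, hf] at h1
      exact (mul_left_cancel (mul_right_cancel h1)).symm))
  obtain ⟨g, hg⟩ := exists_aut φ
  have h1 : ∀ k v, ap (ρ g * y) (ap (ρ k) v) = ap (ρ (g * φ k * g⁻¹)) (ap (ρ g * y) v) := fun k v => by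
    rw [← ap_conj, map_mul, map_mul, map_inv, show ρ (φ k) = _ from hf k]
    congr 1
    group
  obtain ⟨c, hc⟩ := h.uniq (ap (ρ g * y) x) fun k hk => by
    have h2 : g * φ (φ.symm (g⁻¹ * k * g)) * g⁻¹ = k := by rw [MulEquiv.apply_symm_apply]; group
    obtain ⟨c, hc⟩ := h.fix _ ((hg _).1.1 (h2.symm ▸ hk))
    exact ⟨c, by rw [← ap_smul, hc, h1, h2]⟩
  exact ⟨g, to_Vs fun k hk => ⟨_, (hg k).2.2.2 hk, c, by rw [h1, hc, ap_smul]⟩,
    to_Vs fun k hk => ⟨_, ⟨(hg k).2.1.2 hk.1, fun e => hk.2 ((hg k).2.2.1 e)⟩, c, by rw [h1, hc, ap_smul]⟩⟩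

theorem count (hQ : IsNondegenerateQuadraticForm Q) {Y D : Subgroup (GL (Fin n) K)} (hY : Y ≤ isometryGroup K Q) {v e : Fin n → K}
    (idx : (subspaceStabilizer (Submodule.span K {v})).relIndex Y = Fintype.card K ^ 7 * (Fintype.card K ^ 8 - 1))
    {U : Submodule K (Fin n → K)} (he : e ∈ U) (hQe : Q e = 0) (hv : v ∈ U) (hve : polar Q v e ≠ 0) (hd : finrank K U ≤ 8)
    (hD : D ≤ Y) (hU : ∀ g ∈ D, To g U U) (hi : D.relIndex Y ≤ Fintype.card K ^ 4 * (Fintype.card K ^ 4 + 1)) :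
    finrank K U = 8 ∧ subspaceStabilizer (Submodule.span K {v}) ⊓ Y ≤ D := by
  have hv0 : v ≠ 0 := by
    rintro rfl
    exact hve (polar_zero_left (qf hQ) e)
  have h1 := cnt (qf hQ) U (Q v) he hQe hv hve
  rw [Nat.card_eq_fintype_card] at h1
  obtain ⟨h2, h3⟩ := arith Fintype.one_lt_card hd h1 (Ix.relIndex_le (hD.trans hY) hU hv hv0) hi
  rw [← idx] at h2 h3
  refine ⟨by_contra fun h4 => (h3 h4).not_ge ?_, j_one hD h2⟩
  rw [← inf_relIndex_right _ D, relIndex_mul_relIndex _ _ _ inf_le_right hD]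
  exact relIndex_le_of_le_left inf_le_left index_ne_zero_of_finite

end Be

open Be in
/-- **[CS-Be]** -/
theorem boxBe : BoxBe := by
  intro n K _ _ k q m B Sg G X Y P h ⟨hk, hm, hq, F, _, _, hF, ⟨e⟩⟩
  subst hk hm
  have hsph := h.sph
  cases hsph with
  | p1 Q hQ hp hK hd v hv =>
  subst hK
  have : CharP K 2 := ringChar.of_eq (FiniteField.even_card_iff_char_two.2 (Nat.even_iff.1 hq))
  have : CharP F 2 := ringChar.of_eq (FiniteField.even_card_iff_char_two.2 (Nat.even_iff.1 (hF ▸ hq)))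
  have hq2 : 2 ≤ Fintype.card K := Fintype.one_lt_card
  have hYi := h.le.trans (H925.omegaGL_le_iso Q)
  have hsc : ∀ y ∈ Y, y ∈ scalars (Fin n) K → y = 1 := fun y hy hs =>
    (Bo.scal hQ hv (hYi hy) hs).elim id fun h1 => h1.trans (Units.ext (Matrix.ext fun _ _ => CharTwo.neg_eq _))
  have hinj : Function.Injective (toSoc P) := (injective_iff_map_eq_one _).2 fun g hg => by
    rw [← MonoidHom.mem_ker, ker_toSoc] at hg
    exact Subtype.ext (hsc _ (h.core.le g.2) hg)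
  have idx : (subspaceStabilizer (Submodule.span K {v})).relIndex Y = Fintype.card K ^ 7 * (Fintype.card K ^ 8 - 1) := by
    have h4 : (subspaceStabilizer (Submodule.span K {v})).relIndex Y * Nat.gcd 2 (Fintype.card K - 1) =
      Fintype.card K ^ (8 - 1) * (Fintype.card K ^ 8 - 1) := h.idx
    rwa [Nat.Coprime.gcd_eq_one (Nat.coprime_two_left.2 (Nat.Even.sub_odd (by omega) hq odd_one)), mul_one] at h4
  obtain ⟨ρ, x, hρ, hr, hx, hs, hv1, hvx⟩ : ∃ (ρ : S F →* GL (Fin n) K) (x : Fin n → K), Function.Injective ρ ∧ ρ.range = P ∧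
      Q x = 0 ∧ Spin (polar Q) ρ x ∧ v ∈ V1 ρ x ∧ polar Q v x ≠ 0 := by
    let ε : S F ≃* P := ((eP F).trans e.symm).trans (MulEquiv.ofBijective _ ⟨hinj, toSoc_surjective P⟩).symm
    have r0 : (P.subtype.comp ε.toMonoidHom).range = P := by
      rw [MonoidHom.range_comp, MonoidHom.range_eq_top.2 ε.surjective, ← MonoidHom.range_eq_map, range_subtype]
    have i0 : Function.Injective (P.subtype.comp ε.toMonoidHom) := P.subtype_injective.comp ε.injective
    generalize P.subtype.comp ε.toMonoidHom = ρ at r0 i0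
    have hP : ∀ g, ρ g ∈ P := fun g => r0 ▸ ⟨g, rfl⟩
    obtain ⟨x, hx, hs⟩ := exists_spin (Ti.tc_of_hy Ti.Q.ins_p1 h) h.pol (Ti.Q.sing hQ (by omega)) (h.core.le.trans h.le)
      (by simpa only [_root_.Fintype.card_fin, _root_.Nat.reduceMul] using hd) hF r0
    obtain ⟨w, hw, hw'⟩ := exists_swap (F := F)
    obtain ⟨k, hk, hk'⟩ := hs.ex
    have h1 : polar Q (ap (ρ w) x) x ≠ 0 := by
      obtain ⟨c, hc⟩ := hs.fix (w⁻¹ * k) fun u => by
        rw [mul_ap, ← mem_im, hw', ← hk, mem_im, inv_ap]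
      rw [← mul_inv_cancel_left w k, map_mul, ap_mul, ← hc, ap_smul, h.pol.smul] at hk'
      exact right_ne_zero_of_mul hk'
    have h2 : Q (ap (ρ w) x + x) = polar Q (ap (ρ w) x) x := by
      rw [Ti.Q.Q_add (Q := Q), Ti.Q.fix (h.le (h.core.le (hP w))), show Q x = 0 from hx, zero_add, zero_add]
    obtain ⟨c, hc⟩ := isSquare_of_charTwo' (Q (ap (ρ w) x + x) / Q v)
    have h3 : Q (ap (ρ w) x + x) = Q (c • v) := by rw [hQ.smul, pow_two, ← hc, div_mul_cancel₀ _ hv]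
    obtain ⟨g, hg, h4⟩ : ap (ρ w) x + x ∈ Ix.orb (omegaGL Q) (c • v) := by
      rw [Ix.orb_omega hQ (by omega) (by rw [← h3, h2]; exact h1)]
      exact h3
    obtain ⟨y, hy, t, ht, rfl⟩ := h.fac g hg
    obtain ⟨d, hd⟩ := Ix.mem_stab_point.1 ht
    have h5 : (c * d) • v = ap y⁻¹ (ap (ρ w) x) + ap y⁻¹ x := by
      rw [← ap_add, ← h4]
      change _ = ap y⁻¹ (ap (y * t) (c • v))
      rw [ap_mul, ap_inv_ap, ap_smul, mul_smul]
      exact congrArg _ hd.symm
    have h6 := Ix.polar_iso (hYi (inv_mem hy))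
    have h7 : c * d * polar Q v (ap y⁻¹ x) ≠ 0 := by
      rw [← h.pol.smul, h5, h.pol.add, h6, h6, h.pol.sg_self x hx, add_zero]
      exact h1
    refine ⟨_, _, (MulAut.conj y⁻¹).injective.comp i0, le_antisymm ?_ fun p hp => ?_,
      (Ti.Q.fix (h.le (inv_mem hy)) x).trans hx, hs.conj h6, ?_, right_ne_zero_of_mul h7⟩
    · rintro _ ⟨g, rfl⟩
      exact h.core.normal _ (inv_mem hy) _ (hP g)
    · obtain ⟨g, hg⟩ : y * p * y⁻¹ ∈ ρ.range := r0.symm ▸ h.core.normal _ hy _ hp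
      exact ⟨g, show y⁻¹ * ρ g * y⁻¹⁻¹ = p by rw [hg]; group⟩
    · rw [← Submodule.smul_mem_iff _ (left_ne_zero_of_mul h7), h5, ← ap_conj]
      exact add_mem (mem_Vs (ρ := (MulAut.conj y⁻¹).toMonoidHom.comp ρ) hw) x_mem
  have hP : ∀ g, ρ g ∈ P := fun g => hr ▸ ⟨g, rfl⟩
  have ho := orth hQ (fun g => hYi (h.core.le (hP g))) hs
  have h8 : finrank K (V1 ρ x) ≤ 8 := by
    have h1 := H955.finrank_add_perp (nondeg_qf hQ) (V1 ρ x)
    have h2 := Submodule.finrank_mono ho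
    rw [finrank_fintype_fun_eq_card, hd] at h1
    rw [← fr_V] at h2
    omega
  have hE : ((E F).map ρ).relIndex P = Fintype.card K ^ 4 * (Fintype.card K ^ 4 + 1) := by
    rw [← hr, MonoidHom.range_eq_map, relIndex_map_map_of_injective _ _ hρ, relIndex_top_right, index_E, hF]
  refine ⟨fun w hw hX => ?_, fun hY => ?_⟩
  · obtain ⟨c, rfl⟩ := Bo.line_eq hQ (Bo.ne_zero_of (Q := qf hQ) hv) hX
    obtain ⟨h1, h2⟩ := count hQ hYi idx x_mem hx hv1 hvx h8
      (D := Y ⊓ (subspaceStabilizer (V1 ρ x) ⊓ subspaceStabilizer (V2 ρ x))) inf_le_left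
      (fun g hg => Ix.mem_stab_iff.1 hg.2.1) (by
        rw [Bo.relIndex_eq_of_fac h.core.le fun y hy => ?_, ← hE]
        · refine relIndex_le_of_le_left ?_ index_ne_zero_of_finite
          rintro _ ⟨g, hg, rfl⟩
          exact ⟨h.core.le (hP g), Ix.mem_stab_iff.2 (to_E hg).1, Ix.mem_stab_iff.2 (to_E hg).2⟩
        · obtain ⟨g, h1, h2⟩ := exists_fac hs hρ (y := y) fun g => hr.symm ▸ h.core.normal y hy _ (hP g)
          refine ⟨(ρ g)⁻¹, inv_mem (hP g), ?_⟩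
          rw [inv_inv]
          exact ⟨mul_mem (h.core.le (hP g)) hy, Ix.mem_stab_iff.2 h1, Ix.mem_stab_iff.2 h2⟩)
    refine ⟨V2 ρ x, fr_V.symm.trans h1, fun g hg => (h2 hg).2.2, fun h3 => hvx ?_, fun u hu => ?_⟩
    · rw [polar_comm]
      exact ho ((Submodule.smul_mem_iff _ (left_ne_zero_of_smul hw)).1 h3) x x_mem
    · rw [polar_comm]
      exact ho hu _ (Submodule.smul_mem _ _ hv1)
  · have hN : (scalars (Fin n) K).Normal := ⟨fun a ha g => by
      obtain ⟨c, hc⟩ := (mem_scalars_iff _).1 ha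
      refine (mem_scalars_iff _).2 ⟨c, ?_⟩
      rw [Units.val_mul, Units.val_mul, hc, Matrix.mul_smul, Matrix.mul_one, Matrix.smul_mul, ← Units.val_mul,
        mul_inv_cancel, Units.val_one]⟩
    obtain rfl : P = Y := le_antisymm h.core.le fun y hy => by
      obtain ⟨p, hp, t, ht, rfl⟩ := mem_sup_of_normal_right.1 (hY hy)
      rwa [hsc t ((Y.mul_mem_cancel_left (h.core.le hp)).1 hy) ht, mul_one]
    have h1 := (count hQ hYi idx x_mem hx hv1 hvx h8 (D := (E F).map ρ) (by rintro _ ⟨g, -, rfl⟩; exact hP g)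
      (by rintro _ ⟨g, hg, rfl⟩; exact (to_E hg).1) hE.le).2
    let ε : S F ≃* H915.LD.Soc P := MulEquiv.ofBijective ((toSoc P).comp (ρ.codRestrict P hP))
      ⟨hinj.comp fun a b e => hρ (congrArg Subtype.val e), (toSoc_surjective P).comp fun p => by
        obtain ⟨g, hg⟩ : p.1 ∈ ρ.range := hr.symm ▸ p.2
        exact ⟨g, Subtype.ext hg⟩⟩
    have h2 : img (subspaceStabilizer (Submodule.span K {v})) P =
        ((subspaceStabilizer (Submodule.span K {v})).comap ρ).map ε.toMonoidHom := by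
      ext t
      constructor
      · rintro ⟨p, hp, rfl⟩
        obtain ⟨g, hg⟩ : p.1 ∈ ρ.range := hr.symm ▸ p.2
        exact ⟨g, mem_comap.2 (hg.symm ▸ mem_subgroupOf.1 hp), congrArg (toSoc P) (Subtype.ext hg)⟩
      · rintro ⟨g, hg, rfl⟩
        exact ⟨⟨ρ g, hP g⟩, hg, rfl⟩
    rw [h2]
    refine fun h3 => not_prm (fun g hg => ?_) (fun h4 => ?_) (prm_of_map ε h3)
    · obtain ⟨g', hg', h4⟩ := h1 ⟨hg, hP g⟩
      exact hρ h4 ▸ hg'
    · have : Finite (S F) := Finite.of_injective ρ hρ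
      rw [← hr, ← index_comap, h4, index_bot] at idx
      have h5 := Nat.le_of_dvd Nat.card_pos ⟨_, card_S (F := F)⟩
      rw [idx, hF] at h5
      have h6 : Fintype.card K ^ 7 * (Fintype.card K ^ 8 - 1) ≤ Fintype.card K ^ (7 + 8) := by
        rw [pow_add]
        exact Nat.mul_le_mul_left _ (Nat.sub_le _ _)
      exact (Nat.pow_lt_pow_right hq2 (by norm_num)).not_ge (h5.trans h6)

end Cfsg.Agent.SM.CS
end
end
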